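import Cfsg.Agent.Lib.Leech.Orbits.Classify
import Cfsg.Agent.Lib.Leech.Order

/-! Normal forms of the vectors of squared length 64 under signed permutations. -/

set_option autoImplicit false

namespace CfsgLib.Leech.Monomial

open Cfsg CfsgLib CfsgLib.Leech.Orbits
open scoped Pointwise

variable {x y z : GolayPt → ℤ}

theorem stdStab_mul {g h : Co0} (hg : StdStab g) (hh : StdStab h) : StdStab (g * h) := fun v hv => by
  rw [mul_smul]; exact hg _ (hh v hv)

/-- Some element preserving the standard cross carries `x` to `y`. -/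
def ReachH (x y : GolayPt → ℤ) : Prop :=
  ∃ (hx : x ∈ leechLattice) (g : Co0), StdStab g ∧ ((g • ⟨x, hx⟩ : leechLattice) : GolayPt → ℤ) = y

theorem ReachH.refl (hx : x ∈ leechLattice) : ReachH x x :=
  ⟨hx, 1, fun v hv => by rwa [one_smul], by rw [one_smul]⟩

theorem ReachH.mem_right (h : ReachH x y) : y ∈ leechLattice := by
  obtain ⟨hx, g, -, rfl⟩ := h; exact Subtype.coe_prop _

theorem ReachH.trans (h : ReachH x y) (h' : ReachH y z) : ReachH x z := by
  obtain ⟨hx, g, hg, rfl⟩ := h
  obtain ⟨hy, g', hg', rfl⟩ := h'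
  exact ⟨hx, g' * g, stdStab_mul hg' hg, by rw [mul_smul]⟩

theorem reachH_mono {τ : Equiv.Perm GolayPt} (hτ : τ ∈ M24) {c : GolayPt → ZMod 2}
    (hc : c ∈ golayCode) (hx : x ∈ leechLattice) : ReachH x (monoFun τ c x) :=
  ⟨hx, monoEl τ hτ c hc, stdStab_monoEl hτ hc, rfl⟩

theorem reachH_comp {σ : Equiv.Perm GolayPt} (hσ : σ ∈ M24) (hx : x ∈ leechLattice) :
    ReachH x (x ∘ σ) := by
  rw [← monoFun_zero]; exact reachH_mono hσ (zero_mem _) hx

/-- Reduction to one of the sign classes of an absolute pattern. -/
def RepClass (a : List ℤ) (F : List ℕ) (x : GolayPt → ℤ) : Prop :=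
  ∃ m < 2 ^ F.length, leechB (vecOf (candList a F m)) = true ∧ ReachH x (vecOf (candList a F m))

theorem RepClass.of_reach {a : List ℤ} {F : List ℕ} (h : ReachH x y) (h' : RepClass a F y) :
    RepClass a F x := by
  obtain ⟨m, hm, hb, hr⟩ := h'
  exact ⟨m, hm, hb, h.trans hr⟩

/-- The check of one absolute pattern. -/
def caseH (a : List ℤ) (piv : List (ℕ × ℕ)) (F : List ℕ) : Bool :=
  piv.all (fun e => Nat.blt e.1 24 && (Golay.comb e.2).testBit e.1 &&
      piv.all fun e' => Nat.beq e.1 e'.1 || !(Golay.comb e.2).testBit e'.1) &&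
    (List.range 24).all (fun i => decide (0 ≤ a.getD i 0) &&
      (a.getD i 0 == 0 || piv.any (fun e => Nat.beq e.1 i) || F.contains i))

theorem caseH_sound {a : List ℤ} {piv : List (ℕ × ℕ)} {F : List ℕ}
    (h : caseH a piv F = true)
    {x : GolayPt → ℤ} (hx : x ∈ leechLattice) (ha : ∀ p, |x p| = vecOf a p) :
    RepClass a F x := by
  simp only [caseH, Bool.and_eq_true, List.all_eq_true, List.mem_range, Bool.or_eq_true,
    Bool.not_eq_true', List.any_eq_true, Nat.beq_eq, Nat.blt_eq, beq_iff_eq, decide_eq_true_eq,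
    List.contains_eq_mem] at h
  obtain ⟨hpiv, hsup⟩ := h
  suffices H : ∀ l : List (ℕ × ℕ), (∀ e ∈ l, e ∈ piv) → ∀ x : GolayPt → ℤ, x ∈ leechLattice →
      (∀ p, |x p| = vecOf a p) → (∀ e ∈ piv, e ∈ l ∨ 0 ≤ x (Golay.pt e.1)) →
      RepClass a F x from
    H piv (fun e he => he) x hx ha (fun e he => Or.inl he)
  intro l
  induction l with
  | nil =>
    intro _ x hx ha hpos
    set m := Golay.bitsOf (fun j => decide (x (Golay.pt (F.getD j 24)) < 0)) F.length
    have hm : m < 2 ^ F.length := Golay.bitsOf_lt _ _
    have hxe : x = vecOf (candList a F m) := by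
      funext p
      set i := Golay.bit p with hi
      have hi24 : i < 24 := Golay.bit_lt p
      have hget : vecOf (candList a F m) p =
          if (List.range F.length).any (fun j => m.testBit j && Nat.beq (F.getD j 24) i) = true
          then -a.getD i 0 else a.getD i 0 := by
        simp only [vecOf, candList, ← hi]
        rw [List.getD_eq_getElem _ _ (by simpa using hi24), List.getElem_map, List.getElem_range]
      have hap := ha p
      simp only [vecOf, ← hi] at hap
      rw [hget]
      split
      next hneg =>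
        simp only [List.any_eq_true, List.mem_range, Bool.and_eq_true, Nat.beq_eq] at hneg
        obtain ⟨j, hj, hbit, hF⟩ := hneg
        simp only [m, Golay.testBit_bitsOf, hj, decide_true, Bool.true_and, decide_eq_true_eq, hF,
          hi, Golay.pt_bit] at hbit
        rw [abs_of_neg hbit] at hap; rw [hi] at hap ⊢; omega
      next hnneg =>
        rw [← hap]
        by_contra hne
        have hlt : x p < 0 := by
          by_contra hge
          exact hne (abs_of_nonneg (not_lt.1 hge)).symm
        have hne0 : a.getD i 0 ≠ 0 := by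
          rw [← hap]; exact abs_ne_zero.2 (by omega)
        rcases (hsup i hi24).2 with (h0 | ⟨e, he, hei⟩) | hF
        · exact hne0 h0
        · rcases hpos e he with hmem | hge
          · exact absurd hmem (List.not_mem_nil)
          · rw [hei, hi, Golay.pt_bit] at hge; omega
        · apply hnneg
          simp only [List.any_eq_true, List.mem_range, Bool.and_eq_true, Nat.beq_eq]
          obtain ⟨j, hj, hji⟩ := List.getElem_of_mem hF
          refine ⟨j, hj, ?_, by rw [List.getD_eq_getElem _ _ hj, hji]⟩
          simp only [m, Golay.testBit_bitsOf, hj, decide_true, Bool.true_and, decide_eq_true_eq,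
            List.getD_eq_getElem _ _ hj, hji, hi, Golay.pt_bit]
          exact hlt
    exact ⟨m, hm, hxe ▸ leechB_of_mem hx, by rw [← hxe]; exact ReachH.refl hx⟩
  | cons e l ih =>
    intro hsub x hx ha hpos
    have hl : ∀ e' ∈ l, e' ∈ piv := fun e' he' => hsub e' (List.mem_cons_of_mem _ he')
    obtain ⟨⟨he24, hebit⟩, heother⟩ := hpiv e (hsub e List.mem_cons_self)
    rcases le_or_gt 0 (x (Golay.pt e.1)) with hge | hlt
    · refine ih hl x hx ha fun e' he' => ?_
      rcases hpos e' he' with hm | hm
      · rcases List.mem_cons.1 hm with rfl | hm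
        · exact Or.inr hge
        · exact Or.inl hm
      · exact Or.inr hm
    · have hc := Golay.toWord_comb_mem e.2
      have hr := reachH_mono (one_mem M24) hc hx
      refine RepClass.of_reach hr (ih hl _ hr.mem_right (fun p => ?_) fun e' he' => ?_)
      · simp only [monoFun, Equiv.Perm.one_apply]; split <;> simp [ha p]
      · have hx' : e'.1 ≠ e.1 →
            monoFun 1 (Golay.toWord (Golay.comb e.2)) x (Golay.pt e'.1) = x (Golay.pt e'.1) := by
          intro hne
          rcases heother e' he' with h1 | h1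
          · exact absurd h1.symm hne
          · have hz : Golay.toWord (Golay.comb e.2) (Golay.pt e'.1) = 0 := by
              simp [Golay.toWord, Golay.bit_pt (hpiv e' he').1.1, h1]
            simp only [monoFun, Equiv.Perm.one_apply, hz]; simp
        by_cases heq : e'.1 = e.1
        · refine Or.inr ?_
          simp only [monoFun, Equiv.Perm.one_apply, Golay.toWord, heq, Golay.bit_pt he24, hebit,
            if_true]
          omega
        · rcases hpos e' he' with hm | hm
          · rcases List.mem_cons.1 hm with rfl | hm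
            · exact absurd rfl heq
            · exact Or.inl hm
          · exact Or.inr (by rw [hx' heq]; exact hm)


theorem evenH {a : List ℤ} {piv : List (ℕ × ℕ)} {F : List ℕ}
    (hc : caseH a piv F = true)
    (hx : x ∈ leechLattice) (hN : sqNorm x ≤ 80) (he : ∀ p, x p % 2 = 0)
    {σ : Equiv.Perm GolayPt} (hσ : σ ∈ M24) (S2 S4 S6 S8 : Finset GolayPt)
    (h2 : σ • S2 = bitSet x) (h4 : σ • S4 = absSet x 4) (h6 : σ • S6 = absSet x 6)
    (h8 : σ • S8 = absSet x 8) (hpat : ∀ p, vecOf a p = patOf S2 S4 S6 S8 p) :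
    RepClass a F x := by
  refine RepClass.of_reach (reachH_comp hσ hx) (caseH_sound hc (reachH_comp hσ hx).mem_right fun p => ?_)
  rw [hpat, Function.comp_apply, (even_value hN he (σ p)).1]
  have e : ∀ S T : Finset GolayPt, σ • S = T → (σ p ∈ T ↔ p ∈ S) := by
    intro S T h
    rw [← h, ← Equiv.Perm.smul_def, Finset.smul_mem_smul_finset_iff]
  have k2 := (mem_bitSet (x := x) (p := σ p)).symm.trans (e _ _ h2)
  have k4 := e _ _ h4
  have k6 := e _ _ h6
  have k8 := e _ _ h8
  simp only [absSet, Finset.mem_filter_univ] at k4 k6 k8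
  simp only [patOf, k2, k4, k6, k8]


/-- The valid sign classes of a pattern. -/
def classes (a : List ℤ) (F : List ℕ) : List (List ℤ) :=
  ((List.range (2 ^ F.length)).map (candList a F)).filter fun l => leechB (vecOf l)

/-- The representatives. -/
def repList : List (List ℤ) :=
  classes one8Vec one8Free ++
    classes four4Vec four4Free ++
    classes octad6Vec octad6Free ++
    classes octad44Vec octad44Free ++
    classes dodecad4Vec dodecad4Free ++
    classes sixteenVec sixteenFree ++
    [odd533Vec] ++
    [odd33333Vec]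

/-- Reduction to a representative. -/
def Rep64 (x : GolayPt → ℤ) : Prop := ∃ r ∈ repList, ReachH x (vecOf r)

theorem Rep64.of_reach (h : ReachH x y) (h' : Rep64 y) : Rep64 x := by
  obtain ⟨r, hr, h'⟩ := h'; exact ⟨r, hr, h.trans h'⟩

theorem rep64_of_class {a : List ℤ} {F : List ℕ} (hsub : ∀ r ∈ classes a F, r ∈ repList)
    (h : RepClass a F x) : Rep64 x := by
  obtain ⟨m, hm, hb, hr⟩ := h
  exact ⟨_, hsub _ (List.mem_filter.2 ⟨List.mem_map.2 ⟨m, List.mem_range.2 hm, rfl⟩, hb⟩), hr⟩

theorem checkH_one8 : caseH one8Vec one8Piv one8Free = true := by decide +kernel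

theorem Rep64.of_one8 (h : RepClass one8Vec one8Free x) : Rep64 x :=
  rep64_of_class (fun r hr => by simp [repList, hr]) h

theorem checkH_four4 : caseH four4Vec four4Piv four4Free = true := by decide +kernel

theorem Rep64.of_four4 (h : RepClass four4Vec four4Free x) : Rep64 x :=
  rep64_of_class (fun r hr => by simp [repList, hr]) h

theorem checkH_octad6 : caseH octad6Vec octad6Piv octad6Free = true := by decide +kernel

theorem Rep64.of_octad6 (h : RepClass octad6Vec octad6Free x) : Rep64 x :=
  rep64_of_class (fun r hr => by simp [repList, hr]) h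

theorem checkH_octad44 : caseH octad44Vec octad44Piv octad44Free = true := by decide +kernel

theorem Rep64.of_octad44 (h : RepClass octad44Vec octad44Free x) : Rep64 x :=
  rep64_of_class (fun r hr => by simp [repList, hr]) h

theorem checkH_dodecad4 : caseH dodecad4Vec dodecad4Piv dodecad4Free = true := by decide +kernel

theorem Rep64.of_dodecad4 (h : RepClass dodecad4Vec dodecad4Free x) : Rep64 x :=
  rep64_of_class (fun r hr => by simp [repList, hr]) h

theorem checkH_sixteen : caseH sixteenVec sixteenPiv sixteenFree = true := by decide +kernel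

theorem Rep64.of_sixteen (h : RepClass sixteenVec sixteenFree x) : Rep64 x :=
  rep64_of_class (fun r hr => by simp [repList, hr]) h

theorem Rep64.of_odd533 (h : ReachH x (vecOf odd533Vec)) : Rep64 x :=
  ⟨_, by simp [repList], h⟩

theorem Rep64.of_odd33333 (h : ReachH x (vecOf odd33333Vec)) : Rep64 x :=
  ⟨_, by simp [repList], h⟩

theorem evenH64 (hx : x ∈ leechLattice) (hN : sqNorm x = 64) (he : ∀ p, x p % 2 = 0) :
    Rep64 x := by
  have hle : sqNorm x ≤ 80 := by omega
  have hn := even_norm_eq hle he
  have h6 := Finset.card_le_card (absSix_subset hle he)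
  rcases bitSet_card_cases hx with h | h | h | h | h
  · have c6 : absSet x 6 = ∅ := Finset.card_eq_zero.1 (by omega)
    have hb : bitSet x = ∅ := Finset.card_eq_zero.1 h
    rcases (by omega : ((absSet x 8).card = 1 ∧ (absSet x 4).card = 0) ∨
        ((absSet x 8).card = 0 ∧ (absSet x 4).card = 4)) with ⟨h8, h4⟩ | ⟨h8, h4⟩
    · obtain ⟨σ, hσ, hs⟩ := exists_smul_baseSet (by norm_num) (absSet x 8) h8
      exact Rep64.of_one8 <| evenH checkH_one8 hx hle he hσ ∅ ∅ ∅ (baseSet 1)
        (by rw [smul_empty', hb]) (by rw [smul_empty', Finset.card_eq_zero.1 h4])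
        (by rw [smul_empty', c6]) hs (by decide +kernel)
    · obtain ⟨σ, hσ, hs⟩ := exists_smul_baseSet (by norm_num) (absSet x 4) h4
      exact Rep64.of_four4 <| evenH checkH_four4 hx hle he hσ ∅ (baseSet 4) ∅ ∅
        (by rw [smul_empty', hb]) hs (by rw [smul_empty', c6])
        (by rw [smul_empty', Finset.card_eq_zero.1 h8]) (by decide +kernel)
  · have c8 : absSet x 8 = ∅ := Finset.card_eq_zero.1 (by omega)
    rw [c8, Finset.card_empty] at hn
    rcases (by omega : ((absSet x 6).card = 1 ∧ (absSet x 4).card = 0) ∨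
        ((absSet x 6).card = 0 ∧ (absSet x 4).card = 2)) with ⟨h6', h4⟩ | ⟨h6', h4⟩
    · obtain ⟨q, hq⟩ := Finset.card_eq_one.1 h6'
      have hqS : q ∈ bitSet x := absSix_subset hle he (by rw [hq]; exact Finset.mem_singleton_self q)
      obtain ⟨u, hu, hu'⟩ := Finset.exists_subset_card_eq (s := (bitSet x).erase q) (n := 4)
        (by rw [Finset.card_erase_of_mem hqS]; omega)
      have hnd : (q :: u.toList).Nodup := List.nodup_cons.2
        ⟨fun hm => (Finset.mem_erase.1 (hu (Finset.mem_toList.1 hm))).1 rfl, u.nodup_toList⟩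
      obtain ⟨σ, hσ, hmap⟩ := Trans.exists_map_base 5 le_rfl _ hnd (by simp [hu'])
      have h5 := smul_baseSet hmap
      have hsub : σ • baseSet 5 ⊆ bitSet x := by
        intro p hp
        rw [h5, List.mem_toFinset, List.mem_cons, Finset.mem_toList] at hp
        rcases hp with rfl | hp
        · exact hqS
        · exact (Finset.mem_erase.1 (hu hp)).2
      have hOct : Golay.toSet octadSixMask ∈ octads :=
        ⟨(Golay.toSet_mem_supports (by decide +kernel)).2 (by decide +kernel),
          by rw [Golay.card_toSet]; decide +kernel⟩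
      have hB : baseSet 5 ⊆ Golay.toSet octadSixMask := by decide +kernel
      have hS2 : σ • Golay.toSet octadSixMask = bitSet x := by
        refine Golay.octad_eq_of_five (smul_mem_wordsOfWeight hσ hOct) ⟨bitSet_mem hx, h⟩ ?_
        calc 5 = (σ • baseSet 5).card := by rw [Finset.card_smul_finset]; decide +kernel
          _ ≤ _ := Finset.card_le_card (Finset.subset_inter (Finset.smul_finset_subset_smul_finset hB) hsub)
      have hS6 : σ • baseSet 1 = absSet x 6 := by
        have hmap1 : (Trans.basePt.take 1).map (fun i => σ (Golay.pt i)) = [q] := by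
          have := congrArg (List.take 1) hmap
          simpa [List.map_take, List.take_take] using this
        rw [smul_baseSet hmap1, hq]; rfl
      exact Rep64.of_octad6 <| evenH checkH_octad6 hx hle he hσ _ ∅ (baseSet 1) ∅ hS2
        (by rw [smul_empty', Finset.card_eq_zero.1 h4]) hS6 (by rw [smul_empty', c8]) (by decide +kernel)
    · obtain ⟨σ₁, hσ₁, h1⟩ := exists_smul_baseSet (by norm_num) (absSet x 4) h4
      have hF : Golay.toSet 8388609 = baseSet 2 := by decide +kernel
      obtain ⟨σ₂, hσ₂, h2, h3⟩ := Trans.codeTree_sound Trans.octad_checks.2.2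
        (smul_mem_wordsOfWeight (inv_mem hσ₁)
          (show bitSet x ∈ wordsOfWeight (golayCode : Set (GolayPt → ZMod 2)) 8 from ⟨bitSet_mem hx, h⟩)) (by
          rw [hF, Finset.disjoint_left]
          intro p hp hp'
          rw [Finset.mem_inv_smul_finset_iff] at hp
          refine Finset.disjoint_left.1 (absFour_disjoint hle he) hp ?_
          rw [← h1]; exact Finset.smul_mem_smul_finset hp')
      exact Rep64.of_octad44 <| evenH checkH_octad44 hx hle he (mul_mem hσ₁ hσ₂)
        (Golay.toSet (Golay.comb Trans.codeRoot2)) (baseSet 2) ∅ ∅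
        (by rw [mul_smul, h3, smul_inv_smul]) (by rw [mul_smul, ← hF, h2, hF, h1])
        (by rw [smul_empty', Finset.card_eq_zero.1 h6'])
        (by rw [smul_empty', c8]) (by decide +kernel)
  · have c8 : absSet x 8 = ∅ := Finset.card_eq_zero.1 (by omega)
    have c6 : absSet x 6 = ∅ := Finset.card_eq_zero.1 (by omega)
    rw [c8, c6, Finset.card_empty] at hn
    obtain ⟨σ, hσ, hs, hq⟩ := exists_octad_point Trans.dodecad_checks.2
      (s := bitSet x) ⟨bitSet_mem hx, h⟩ (by omega : (absSet x 4).card = 1) (absFour_disjoint hle he)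
    exact Rep64.of_dodecad4 <| evenH checkH_dodecad4 hx hle he hσ _ (baseSet 1) ∅ ∅ hs hq
      (by rw [smul_empty', c6]) (by rw [smul_empty', c8]) (by decide +kernel)
  · have hcard : (bitSet x)ᶜ.card = 8 := by rw [Finset.card_compl, h]; simp
    obtain ⟨σ, hσ, -, hs⟩ := Trans.codeTree_sound Trans.octad_checks.1
      (s := (bitSet x)ᶜ) ⟨compl_mem_supports (bitSet_mem hx), hcard⟩
      (Finset.disjoint_left.2 fun p _ hp => by simp [Golay.mem_toSet] at hp)
    exact Rep64.of_sixteen <| evenH checkH_sixteen hx hle he hσ (Golay.toSet (Golay.comb Trans.codeRoot0))ᶜ ∅ ∅ ∅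
      (by rw [smul_compl', hs, compl_compl])
      (by rw [smul_empty', Finset.card_eq_zero.1 (by omega : (absSet x 4).card = 0)])
      (by rw [smul_empty', Finset.card_eq_zero.1 (by omega : (absSet x 6).card = 0)])
      (by rw [smul_empty', Finset.card_eq_zero.1 (by omega : (absSet x 8).card = 0)])
      (by decide +kernel)
  · omega


theorem oddH_normalize (hx : x ∈ leechLattice) (hodd : x none % 2 = 1) :
    ∃ y, ReachH x y ∧ sqNorm y = sqNorm x ∧ ∀ p, y p % 4 = 1 := by
  have hb := (mem_leech_iff.1 hx).2.1
  refine ⟨monoFun 1 (bits x) x, reachH_mono (one_mem _) hb hx, ?_, fun p => ?_⟩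
  · refine Finset.sum_congr rfl fun i _ => ?_
    simp only [monoFun, Equiv.Perm.one_apply]; split <;> ring
  · have := (mem_leech_iff.1 hx).1 p
    have hbp : bits x p = ((x p / 2 : ℤ) : ZMod 2) := rfl
    simp only [monoFun, Equiv.Perm.one_apply]
    rcases zmod_cast_even_or_odd (x p / 2) with ⟨h, h'⟩ | ⟨h, h'⟩
    · rw [if_neg (by rw [hbp, h']; decide)]; omega
    · rw [if_pos (hbp.trans h')]; omega


theorem oddH {y : GolayPt → ℤ} (hy : y ∈ leechLattice) (hN : sqNorm y ≤ 80)
    (h4 : ∀ p, y p % 4 = 1) {a : List ℤ} 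
    {σ : Equiv.Perm GolayPt} (hσ : σ ∈ M24) (T3 T5 : Finset GolayPt)
    (h3 : σ • T3 = valPts y (-3)) (h5 : σ • T5 = valPts y 5) (h7 : valPts y (-7) = ∅)
    (hpat : ∀ p, vecOf a p = if p ∈ T5 then 5 else if p ∈ T3 then -3 else 1) :
    ReachH y (vecOf a) := by
  have hcomp : y ∘ σ = vecOf a := by
    funext p
    rw [hpat, Function.comp_apply, (odd_value hN h4 (σ p)).1]
    have k7 : ¬ y (σ p) = -7 := fun h => by
      have : σ p ∈ valPts y (-7) := Finset.mem_filter.2 ⟨Finset.mem_univ _, h⟩
      rw [h7] at this; simp at this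
    have e : ∀ S T : Finset GolayPt, σ • S = T → (σ p ∈ T ↔ p ∈ S) := by
      intro S T h
      rw [← h, ← Equiv.Perm.smul_def, Finset.smul_mem_smul_finset_iff]
    have k3 := e _ _ h3
    have k5 := e _ _ h5
    simp only [valPts, Finset.mem_filter_univ] at k3 k5
    simp only [if_neg k7, k3, k5]
  exact hcomp ▸ reachH_comp hσ hy


theorem oddH64 (hx : x ∈ leechLattice) (hN : sqNorm x = 64) (hodd : x none % 2 = 1) :
    Rep64 x := by
  obtain ⟨y, hr, hn, h4⟩ := oddH_normalize hx hodd
  refine Rep64.of_reach hr ?_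
  have hle : sqNorm y ≤ 80 := by omega
  have hc := odd_norm_eq hle h4
  rcases (by omega : ((valPts y (-3)).card = 5 ∧ (valPts y 5).card = 0) ∨
      ((valPts y (-3)).card = 2 ∧ (valPts y 5).card = 1)) with ⟨h3, h5⟩ | ⟨h3, h5⟩
  · obtain ⟨σ, hσ, hs⟩ := exists_smul_baseSet le_rfl (valPts y (-3)) h3
    exact Rep64.of_odd33333 <| oddH (a := odd33333Vec) hr.mem_right hle h4 hσ (baseSet 5) ∅ hs
      (by rw [smul_empty', Finset.card_eq_zero.1 h5]) (Finset.card_eq_zero.1 (by omega))
      (by decide +kernel)
  · obtain ⟨q, hq⟩ := Finset.card_eq_one.1 h5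
    have hnot : q ∉ valPts y (-3) := by
      intro hm
      have h1 := (Finset.mem_filter.1 hm).2
      have h2 : y q = 5 := by
        have : q ∈ valPts y 5 := by rw [hq]; exact Finset.mem_singleton_self q
        exact (Finset.mem_filter.1 this).2
      omega
    have hnd : (q :: (valPts y (-3)).toList).Nodup :=
      List.nodup_cons.2 ⟨fun hm => hnot (Finset.mem_toList.1 hm), Finset.nodup_toList _⟩
    obtain ⟨σ, hσ, hmap⟩ := Trans.exists_map_base 3 (by norm_num) _ hnd (by simp [h3])
    have hb := smul_baseSet hmap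
    have hmap1 : (Trans.basePt.take 1).map (fun i => σ (Golay.pt i)) = [q] := by
      have := congrArg (List.take 1) hmap
      simpa [List.map_take, List.take_take] using this
    have h1 := smul_baseSet hmap1
    have hsplit : baseSet 3 \ baseSet 1 = ((Trans.basePt.take 3).drop 1 |>.map Golay.pt).toFinset := by
      decide +kernel
    have hs3 : σ • (baseSet 3 \ baseSet 1) = valPts y (-3) := by
      rw [Finset.smul_finset_sdiff, hb, h1, List.toFinset_cons, Finset.toList_toFinset]
      simp [Finset.insert_sdiff_of_mem, Finset.sdiff_singleton_eq_erase, hnot]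
    exact Rep64.of_odd533 <| oddH (a := odd533Vec) hr.mem_right hle h4 hσ (baseSet 3 \ baseSet 1) (baseSet 1) hs3
      (by rw [h1, hq]; rfl) (Finset.card_eq_zero.1 (by omega)) (by decide +kernel)


/-- Every vector of squared length 64 reduces to a representative. -/
theorem rep64 (hx : x ∈ leechLattice) (hN : sqNorm x = 64) : Rep64 x := by
  rcases Int.emod_two_eq_zero_or_one (x none) with h | h
  · exact evenH64 hx hN fun p => ((mem_leech_iff.1 hx).1 p).trans h
  · exact oddH64 hx hN h

end CfsgLib.Leech.Monomial
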