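import Cfsg.Agent.Lib.Leech.Stab.Cert
import Cfsg.Agent.Lib.Leech.Monomial.NormalForm

/-! Certificates that a representative class generates the whole group with the monomial group. -/

set_option autoImplicit false

namespace CfsgLib.Leech.Monomial

open Cfsg CfsgLib CfsgLib.Leech.Stab
open CfsgLib.Leech.Orbits (vecOf monoTbl eqB eq_of_eqB monoFun_tbl)

/-- The vector `8` at the extra point, packed. -/
def topCode : ℕ := 1018360158061024257466626376827683344

theorem top_ok : latB topCode = true ∧ eqB (vecOf (dig 24 topCode)) (e8 none) = true := by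
  decide +kernel

theorem lat_top : lat topCode = eightVec none := by
  refine Subtype.ext ?_
  rw [coe_lat top_ok.1, eq_of_eqB top_ok.2, coe_eightVec]
  funext p
  by_cases h : p = none
  · subst h; simp [e8]
  · rw [Pi.single_eq_of_ne h, e8, if_neg]
    exact fun hb => h (Golay.bit_injective hb)

/-- A certificate for one representative. -/
structure HCert where
  rep : ℕ
  slp : List (Op × List ℕ)
  idx : ℕ
  steps : List (Option (ℕ × ℕ) × ℕ)
  last : ℕ × ℕ

/-- One step of a chain. -/
def stepOk (cols : List ℕ) (cur : ℕ) : Option (ℕ × ℕ) → ℕ → Bool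
  | none, n => applyC cols cur == 8 * colZ n
  | some (T, cx), n => Trans.okT T && eqB (monoTbl T cx (vecOf (dig 24 cur))) (vecOf (dig 24 n))

/-- A chain. -/
def chainOk (cols : List ℕ) : ℕ → List (Option (ℕ × ℕ) × ℕ) → Bool
  | _, [] => true
  | cur, (o, n) :: l => latB n && stepOk cols cur o n && chainOk cols n l

/-- The end of a chain. -/
def endOf : ℕ → List (Option (ℕ × ℕ) × ℕ) → ℕ
  | cur, [] => cur
  | _, (_, n) :: l => endOf n l

/-- The check. -/
def HCert.ok (c : HCert) : Bool :=
  slpB c.slp && Nat.blt c.idx c.slp.length && latB c.rep &&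
    applyC (colsAt c.slp c.idx) topCode == 8 * colZ c.rep &&
    chainOk (colsAt c.slp c.idx) c.rep c.steps &&
    (Trans.okT c.last.1 && eqB (monoTbl c.last.1 c.last.2 (xiFun (vecOf (dig 24 topCode))))
      (vecOf (dig 24 (endOf c.rep c.steps))))

theorem slp_sound_in (K : Subgroup Co0) (hxi : xiEl ∈ K)
    (hmono : ∀ g, StdStab g → g ∈ K) {s : List (Op × List ℕ)} (h : slpB s = true) :
    ∀ k < s.length, ∃ g ∈ K, Valid g (colsAt s k) := by
  intro k
  induction k using Nat.strong_induction_on with
  | _ k ih =>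
    intro hk
    have hc := List.all_eq_true.1 h k (List.mem_range.2 hk)
    unfold opB at hc
    split at hc
    · exact ⟨xiEl, hxi, eq_of_beq hc⟩
    · rename_i T cx _
      rw [Bool.and_eq_true] at hc
      refine ⟨monoEl _ (Trans.tblPerm_mem hc.1) _ (Golay.toWord_comb_mem cx),
        hmono _ (stdStab_monoEl _ _), (eq_of_beq hc.2).trans (congrArg listOf (funext fun p => ?_))⟩
      rw [coe_monoEl_smul, monoFun_tbl hc.1]
      rfl
    · rename_i a b _
      simp only [Bool.and_eq_true, Nat.blt_eq] at hc
      obtain ⟨⟨ha, hb⟩, he⟩ := hc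
      obtain ⟨ga, hgaK, hga⟩ := ih a ha (by omega)
      obtain ⟨gb, hgbK, hgb⟩ := ih b hb (by omega)
      refine ⟨ga * gb, mul_mem hgaK hgbK, ?_⟩
      have hlen : (colsAt s b).length = 24 := by
        have := congrArg List.length hgb; simpa [listOf_length] using this
      have he' := eq_of_beq he
      refine List.ext_getElem ?_ fun i h1 h2 => ?_
      · have := congrArg List.length he'
        simp only [List.length_map] at this
        simp [listOf_length, this, hlen]
      · have hi : i < (colsAt s b).length := by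
          have := congrArg List.length he'
          simp only [List.length_map] at this h1
          omega
        have e1 : (8 : ℤ) * colZ ((colsAt s k)[i]'(by simpa using h1)) =
            applyC (colsAt s a) ((colsAt s b)[i]'hi) := by
          have h3 := List.getElem_of_eq he' (i := i) (by simpa using h1)
          simpa using h3
        have e2 : Rep ((gb • e8L (Golay.pt i) : leechLattice) : GolayPt → ℤ) ((colsAt s b)[i]'hi) := by
          have h3 := List.getElem_of_eq hgb (i := i) (by simpa using hi)
          simp only [List.getElem_map, listOf, List.getElem_range] at h3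
          exact h3.symm
        have e3 := applyC_eq hga e2 (by rw [sqNorm_smul]; simp [e8L, sqNorm_e8])
        simp only [List.getElem_map, listOf, List.getElem_range]
        rw [mul_smul]
        unfold listOf at e3
        omega

theorem smul_lat {g : Co0} {cols : List ℕ} (hg : Valid g cols) {n m : ℕ} (hn : latB n = true)
    (hm : latB m = true) (h : applyC cols n = 8 * colZ m) : g • lat n = lat m := by
  obtain ⟨-, n2, n3⟩ := listOf_lat hn
  obtain ⟨-, m2, m3⟩ := listOf_lat hm
  exact Subtype.ext (rep_inj (rep_smul hg n2 n3 h) m2 (by rw [sqNorm_smul]; exact n3) m3)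

theorem endOf_lat {cols : List ℕ} : ∀ (l : List (Option (ℕ × ℕ) × ℕ)) (cur : ℕ), latB cur = true →
    chainOk cols cur l = true → latB (endOf cur l) = true
  | [], _, h, _ => h
  | (o, n) :: l, cur, _, h => by
    simp only [chainOk, Bool.and_eq_true] at h
    exact endOf_lat l n h.1.1 h.2

theorem chain_in (K : Subgroup Co0) (hmono : ∀ g, StdStab g → g ∈ K) {k : Co0} (hk : k ∈ K)
    {cols : List ℕ} (hcols : Valid k cols) :
    ∀ (l : List (Option (ℕ × ℕ) × ℕ)) (cur : ℕ), latB cur = true → chainOk cols cur l = true →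
      (∃ a ∈ K, a • lat topCode = lat cur) → ∃ a ∈ K, a • lat topCode = lat (endOf cur l)
  | [], _, _, _, h => h
  | (o, n) :: l, cur, hcur, h, ⟨a, ha, hat⟩ => by
    simp only [chainOk, Bool.and_eq_true] at h
    obtain ⟨⟨hn, hs⟩, hl⟩ := h
    refine chain_in K hmono hk hcols l n hn hl ?_
    cases o with
    | none =>
      simp only [stepOk, beq_iff_eq] at hs
      exact ⟨k * a, mul_mem hk ha, by rw [mul_smul, hat, smul_lat hcols hcur hn hs]⟩
    | some p =>
      obtain ⟨T, cx⟩ := p
      simp only [stepOk, Bool.and_eq_true] at hs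
      refine ⟨monoEl _ (Trans.tblPerm_mem hs.1) _ (Golay.toWord_comb_mem cx) * a,
        mul_mem (hmono _ (stdStab_monoEl _ _)) ha, Subtype.ext ?_⟩
      rw [mul_smul, hat, coe_monoEl_smul, monoFun_tbl hs.1, coe_lat hcur, coe_lat hn]
      exact eq_of_eqB hs.2

/-- A subgroup containing the monomial group and an element onto a representative contains `xiEl`. -/
theorem xi_mem {c : HCert} (hc : c.ok = true) (K : Subgroup Co0)
    (hmono : ∀ g, StdStab g → g ∈ K) {g : Co0} (hg : g ∈ K) (hgr : g • eightVec none = lat c.rep) :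
    xiEl ∈ K := by
  simp only [HCert.ok, Bool.and_eq_true, beq_iff_eq, Nat.blt_eq] at hc
  obtain ⟨⟨⟨⟨⟨hslp, hidx⟩, hrep⟩, happ⟩, hchain⟩, hT, hend⟩ := hc
  obtain ⟨k, hk⟩ := slp_sound hslp _ hidx
  have hkr : k • lat topCode = lat c.rep := smul_lat hk top_ok.1 hrep happ
  have hkK : k ∈ K := by
    have hfix : StdStab (g⁻¹ * k) := stdStab_of_fix (by
      rw [mul_smul, ← lat_top, hkr, inv_smul_eq_iff, lat_top, hgr])
    have := mul_mem hg (hmono _ hfix)
    rwa [mul_inv_cancel_left] at this
  obtain ⟨a, ha, hae⟩ := chain_in K hmono hkK hk c.steps c.rep hrep hchain ⟨k, hkK, hkr⟩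
  set L := monoEl _ (Trans.tblPerm_mem hT) _ (Golay.toWord_comb_mem c.last.2)
  have hLx : (L * xiEl) • lat topCode = lat (endOf c.rep c.steps) := by
    refine Subtype.ext ?_
    rw [mul_smul, coe_monoEl_smul, coe_xiEl_smul, monoFun_tbl hT, coe_lat top_ok.1,
      coe_lat (endOf_lat _ _ hrep hchain)]
    exact eq_of_eqB hend
  have hfix : StdStab (a⁻¹ * (L * xiEl)) := stdStab_of_fix (by
    rw [← lat_top, mul_smul, hLx, inv_smul_eq_iff, hae])
  have h1 := mul_mem ha (hmono _ hfix)
  rw [mul_inv_cancel_left] at h1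
  exact (Subgroup.mul_mem_cancel_left K (hmono _ (stdStab_monoEl _ _))).1 h1

/-- A subgroup containing the monomial group and `xiEl` contains an element onto every
representative. -/
theorem rep_mem {c : HCert} (hc : c.ok = true) (K : Subgroup Co0)
    (hmono : ∀ g, StdStab g → g ∈ K) (hxi : xiEl ∈ K) :
    ∃ k ∈ K, k • eightVec none = lat c.rep := by
  simp only [HCert.ok, Bool.and_eq_true, beq_iff_eq, Nat.blt_eq] at hc
  obtain ⟨⟨⟨⟨⟨hslp, hidx⟩, hrep⟩, happ⟩, -⟩, -⟩ := hc
  obtain ⟨k, hkK, hk⟩ := slp_sound_in K hxi hmono hslp _ hidx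
  exact ⟨k, hkK, by rw [← lat_top, smul_lat hk top_ok.1 hrep happ]⟩

end CfsgLib.Leech.Monomial
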