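import Cfsg.Agent.Lib.Leech.Monomial.Data
import Mathlib.Order.Atoms

/-! The stabiliser of the standard cross is a maximal subgroup. -/

set_option autoImplicit false

namespace CfsgLib.Leech.Monomial

open Cfsg CfsgLib CfsgLib.Leech.Stab
open CfsgLib.Leech.Orbits (vecOf eqB eq_of_eqB)

theorem rep_cover : (repList.all fun r =>
    eqB (vecOf r) (vecOf (dig 24 topCode)) || hCerts.any fun c => eqB (vecOf r) (vecOf (dig 24 c.rep))) = true := by
  decide +kernel

/-- An element either preserves the cross or moves it to a certified class. -/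
theorem split_element (g : Co0) :
    StdStab g ∨ ∃ c ∈ hCerts, ∃ h, StdStab h ∧ (h * g) • eightVec none = lat c.rep := by
  obtain ⟨r, hr, hx, h, hh, he⟩ := rep64 ((g • eightVec none : leechLattice)).2
    (by rw [sqNorm_smul, sqNorm_eightVec])
  have hc := List.all_eq_true.1 rep_cover r hr
  simp only [Bool.or_eq_true, List.any_eq_true] at hc
  rcases hc with hc | ⟨c, hc, hce⟩
  · left
    have hfix : (h * g) • eightVec none = eightVec none := by
      refine Subtype.ext ?_
      rw [mul_smul]
      refine he.trans ((eq_of_eqB hc).trans ?_)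
      rw [← coe_lat top_ok.1, lat_top]
    intro v hv
    have h1 := stdStab_of_fix hfix v hv
    obtain ⟨τ, hτ, d, hd, rfl⟩ := exists_mono_of_stdStab hh
    rw [mul_smul] at h1
    obtain ⟨i, h8⟩ := mem_stdCross_iff.1 h1
    rw [mem_stdCross_iff]
    refine ⟨τ i, ?_⟩
    have hi : ∀ j, (monoEl τ hτ d hd) • eightVec j = eightVec (τ⁻¹ j) ∨
        (monoEl τ hτ d hd) • eightVec j = -eightVec (τ⁻¹ j) := by
      intro j
      by_cases hdj : d (τ⁻¹ j) = 1
      · refine Or.inr (Subtype.ext ?_)
        rw [coe_monoEl_smul, NegMemClass.coe_neg, coe_eightVec, coe_eightVec, monoFun_single,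
          if_pos hdj, Pi.single_neg]
      · refine Or.inl (Subtype.ext ?_)
        rw [coe_monoEl_smul, coe_eightVec, coe_eightVec, monoFun_single, if_neg hdj]
    have hn : monoEl τ hτ d hd • (-eightVec (τ i)) = -(monoEl τ hτ d hd • eightVec (τ i)) := smul_neg' _ _
    have e : τ⁻¹ (τ i) = i := by simp
    rcases hi (τ i) with h2 | h2 <;> rw [e] at h2 <;> rcases h8 with h8 | h8
    · exact Or.inl (smul_left_cancel _ (h8.trans h2.symm))
    · exact Or.inr (smul_left_cancel _ (by rw [h8, hn, h2]))
    · exact Or.inr (smul_left_cancel _ (by rw [h8, hn, h2, neg_neg]))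
    · exact Or.inl (smul_left_cancel _ (by rw [h8, h2]))
  · refine Or.inr ⟨c, hc, h, hh, Subtype.ext ?_⟩
    rw [mul_smul]
    have hl : latB c.rep = true := by
      have := hCerts_ok c hc
      simp only [HCert.ok, Bool.and_eq_true] at this
      exact this.1.1.1.2
    exact he.trans ((eq_of_eqB hce).trans (coe_lat hl).symm)

theorem isCoatom_stdStab (H : Subgroup Co0) (hH : (H : Set Co0) = {g | StdStab g}) : IsCoatom H := by
  have hm : ∀ g, g ∈ H ↔ StdStab g := fun g => Set.ext_iff.1 hH g
  refine ⟨fun htop => ?_, fun K hK => ?_⟩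
  · have hxi : StdStab xiEl := (hm _).1 (by rw [htop]; exact Subgroup.mem_top _)
    have hne : eqB (xiFun (vecOf (dig 24 topCode))) (vecOf (dig 24 topCode)) = false ∧
        ((List.range 24).any fun i => (xiFun (vecOf (dig 24 topCode)) (Golay.pt i)).natAbs == 4) = true := by
      decide +kernel
    have h1 := hxi (eightVec none) (mem_stdCross_iff.2 ⟨none, Or.inl rfl⟩)
    rw [coe_xiEl_smul, ← lat_top, coe_lat top_ok.1] at h1
    obtain ⟨i, s, hs, he⟩ := h1
    obtain ⟨j, -, hj⟩ := List.any_eq_true.1 hne.2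
    rw [he, beq_iff_eq, Pi.single_apply] at hj
    rcases hs with rfl | rfl <;> split at hj <;> simp at hj
  · have hmono : ∀ g, StdStab g → g ∈ K := fun g hg => hK.le ((hm g).2 hg)
    obtain ⟨g, hgK, hgH⟩ := SetLike.exists_of_lt hK
    have hxi : xiEl ∈ K := by
      rcases split_element g with hs | ⟨c, hc, h, hh, he⟩
      · exact absurd ((hm g).2 hs) hgH
      · exact xi_mem (hCerts_ok c hc) K hmono (mul_mem (hmono h hh) hgK) he
    refine eq_top_iff.2 fun a _ => ?_
    rcases split_element a with hs | ⟨c, hc, h, hh, he⟩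
    · exact hmono a hs
    · obtain ⟨k, hk, hke⟩ := rep_mem (hCerts_ok c hc) K hmono hxi
      have hfix : StdStab (k⁻¹ * (h * a)) := stdStab_of_fix (by
        rw [mul_smul, he, inv_smul_eq_iff, hke])
      have h1 := mul_mem hk (hmono _ hfix)
      rw [mul_inv_cancel_left] at h1
      exact (Subgroup.mul_mem_cancel_left K (hmono h hh)).1 h1

end CfsgLib.Leech.Monomial
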